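import Mathlib
import Cfsg.Agent.Lib.Core.MinNormal

/-!
# Linear groups in which all stabilisers of nonzero vectors are maximal: elementary facts
-/

set_option autoImplicit false
set_option linter.all false

namespace CfsgLib.Perm.EPAffine

open MulAction Finset

variable {H V : Type*} [Group H] [AddCommGroup V] [DistribMulAction H V]

/-- The standing hypotheses: a faithful irreducible insoluble linear group all of whose
stabilisers of nonzero vectors are maximal. -/
structure Hyp (H V : Type*) [Group H] [AddCommGroup V] [DistribMulAction H V] : Prop where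
  faithful : ∀ h : H, (∀ v : V, h • v = v) → h = 1
  irred : ∀ W : AddSubgroup V, (∀ h : H, ∀ w ∈ W, h • w ∈ W) → W = ⊥ ∨ W = ⊤
  max : ∀ v : V, v ≠ 0 → IsCoatom (stabilizer H v)
  insoluble : ¬ Group.IsSolvable H

variable (hyp : Hyp H V)

/-- A linear identity behind everything. -/
theorem sum_identity {r : ℕ} (hr : r.Prime) {g b : H} (hc : g * b = b * g) (hb : b ^ r = 1)
    (x : V) :
    ∑ j ∈ range r, ∑ i ∈ range r, (g * b ^ j) ^ i • x =
      r • x + ∑ i ∈ Ico 1 r, g ^ i • ∑ j ∈ range r, b ^ j • x := by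
  rw [Finset.sum_comm, range_eq_Ico, Finset.sum_eq_sum_Ico_succ_bot hr.pos, zero_add]
  congr 1
  · simp
  · refine Finset.sum_congr rfl fun i hi => ?_
    obtain ⟨hi1, hir⟩ := Finset.mem_Ico.1 hi
    rw [← range_eq_Ico, Finset.smul_sum]
    have e : ∀ j : ℕ, (g * b ^ j) ^ i • x = g ^ i • b ^ (i * j % r) • x := fun j => by
      rw [(Commute.pow_right hc j).mul_pow, ← pow_mul, mul_smul, pow_eq_pow_mod (j * i) hb,
        mul_comm j i]
    simp only [e]
    have hco : Nat.Coprime i r := by
      refine (Nat.Prime.coprime_iff_not_dvd hr).2 ?_ |>.symm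
      exact fun hd => absurd (Nat.le_of_dvd (by omega) hd) (by omega)
    refine Finset.sum_nbij (fun j => i * j % r) ?_ ?_ ?_ (fun j _ => rfl)
    · exact fun j _ => Finset.mem_range.2 (Nat.mod_lt _ hr.pos)
    · intro a ha c hc' he
      have := Nat.ModEq.cancel_left_of_coprime (m := r) (c := i) (hco.symm) he
      rwa [Nat.ModEq, Nat.mod_eq_of_lt (Finset.mem_range.1 ha),
        Nat.mod_eq_of_lt (Finset.mem_range.1 hc')] at this
    · intro c hc'
      have hcard : (range r).card = ((range r).image fun j => i * j % r).card := by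
        rw [Finset.card_image_of_injOn]
        intro a ha d hd he
        have := Nat.ModEq.cancel_left_of_coprime (m := r) (c := i) (hco.symm) he
        rwa [Nat.ModEq, Nat.mod_eq_of_lt (Finset.mem_range.1 ha),
          Nat.mod_eq_of_lt (Finset.mem_range.1 hd)] at this
      have hsub : ((range r).image fun j => i * j % r) ⊆ range r := by
        intro a ha
        obtain ⟨j, -, rfl⟩ := Finset.mem_image.1 ha
        exact Finset.mem_range.2 (Nat.mod_lt _ hr.pos)
      have := Finset.eq_of_subset_of_card_le hsub hcard.le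
      rw [← this] at hc'
      obtain ⟨j, hj, he⟩ := Finset.mem_image.1 hc'
      exact ⟨j, hj, he⟩

/-- Cyclic sums are fixed. -/
theorem smul_cyclic_sum {r : ℕ} {y : H} {x : V} (h : y ^ r • x = x) :
    y • ∑ i ∈ range r, y ^ i • x = ∑ i ∈ range r, y ^ i • x := by
  rw [Finset.smul_sum]
  simp only [← mul_smul, ← pow_succ']
  have h1 := Finset.sum_range_succ (fun i => y ^ i • x) r
  rw [Finset.sum_range_succ'] at h1
  simp only [pow_zero, one_smul] at h1
  rw [h] at h1
  exact add_right_cancel h1

include hyp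

theorem exists_ne_zero : ∃ v : V, v ≠ 0 := by
  by_contra hc
  push Not at hc
  haveI : Subsingleton H := ⟨fun a b => by
    rw [hyp.faithful a fun v => by rw [hc v, smul_zero],
      hyp.faithful b fun v => by rw [hc v, smul_zero]]⟩
  exact hyp.insoluble inferInstance

theorem eq_one_of_fix_orbit {v : V} (hv : v ≠ 0) {s : H} (hs : ∀ h : H, s • h • v = h • v) :
    s = 1 := by
  set W := AddSubgroup.closure (Set.range fun h : H => h • v) with hW
  have hinv : ∀ h : H, ∀ w ∈ W, h • w ∈ W := by
    intro h w hw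
    induction hw using AddSubgroup.closure_induction with
    | mem x hx =>
      obtain ⟨k, rfl⟩ := hx
      exact AddSubgroup.subset_closure ⟨h * k, mul_smul h k v⟩
    | zero => rw [smul_zero]; exact W.zero_mem
    | add x y _ _ hx hy => rw [smul_add]; exact W.add_mem hx hy
    | neg x _ hx => rw [smul_neg]; exact W.neg_mem hx
  have htop : W = ⊤ := (hyp.irred W hinv).resolve_left fun e => hv (by
    have : v ∈ W := AddSubgroup.subset_closure ⟨1, one_smul H v⟩
    rwa [e, AddSubgroup.mem_bot] at this)
  refine hyp.faithful s fun w => ?_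
  have hw : w ∈ W := htop ▸ AddSubgroup.mem_top w
  induction hw using AddSubgroup.closure_induction with
  | mem x hx => obtain ⟨k, rfl⟩ := hx; exact hs k
  | zero => rw [smul_zero]
  | add x y _ _ hx hy => rw [smul_add, hx, hy]
  | neg x _ hx => rw [smul_neg, hx]

theorem normal_le_stab {v : V} (hv : v ≠ 0) {X : Subgroup H} [hX : X.Normal]
    (h : X ≤ stabilizer H v) : X = ⊥ := by
  refine (Subgroup.eq_bot_iff_forall _).2 fun x hx => eq_one_of_fix_orbit hyp hv fun k => ?_
  have h2 := mem_stabilizer_iff.1 (h (hX.conj_mem x hx k⁻¹))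
  rw [inv_inv, mul_smul, mul_smul, inv_smul_eq_iff] at h2
  exact h2

theorem eq_top_or_le_of_stab {v : V} (hv : v ≠ 0) {S : Subgroup H} (h : stabilizer H v ≤ S) :
    S = stabilizer H v ∨ S = ⊤ :=
  ((hyp.max v hv).le_iff.1 h).symm

theorem exists_factor {v : V} (hv : v ≠ 0) {X : Subgroup H} [X.Normal] (hX : X ≠ ⊥) (h : H) :
    ∃ m ∈ X, ∃ s ∈ stabilizer H v, h = m * s := by
  rcases eq_top_or_le_of_stab hyp hv (le_sup_right (a := X) (b := stabilizer H v)) with e | e
  · exact absurd (normal_le_stab hyp hv (e ▸ le_sup_left : X ≤ stabilizer H v)) hX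
  · have := e.symm ▸ Subgroup.mem_top h
    obtain ⟨m, hm, s, hs, rfl⟩ := Subgroup.mem_sup_of_normal_left.1 this
    exact ⟨m, hm, s, hs, rfl⟩

/-- A subgroup of `stabilizer H v` commuting with a normal subgroup `X ≠ ⊥` is trivial. -/
theorem eq_one_of_commute {v : V} (hv : v ≠ 0) {X : Subgroup H} [X.Normal] (hX : X ≠ ⊥) {s : H}
    (hs : s • v = v) (hc : ∀ x ∈ X, s * x = x * s) : s = 1 := by
  refine eq_one_of_fix_orbit hyp hv fun h => ?_
  obtain ⟨m, hm, t, ht, rfl⟩ := exists_factor hyp hv hX h
  rw [mul_smul, mem_stabilizer_iff.1 ht, ← mul_smul, hc m hm, mul_smul, hs]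

/-- The characteristic is two. -/
theorem char_two [Finite H] (hodd : Odd (Nat.card H) → Group.IsSolvable H) {p : ℕ} (hp : p.Prime)
    (hV : ∀ v : V, p • v = 0) : p = 2 := by
  by_contra hp2
  have h2 : 2 ∣ Nat.card H := by
    by_contra h
    exact hyp.insoluble (hodd (Nat.odd_iff.2 (by omega)))
  haveI : Fact (Nat.Prime 2) := ⟨Nat.prime_two⟩
  obtain ⟨h, hh⟩ := exists_prime_orderOf_dvd_card' (G := H) 2 h2
  have hh1 : h ≠ 1 := fun e => by simp [e] at hh
  have hhh : h * h = 1 := by rw [← sq, ← hh, pow_orderOf_eq_one]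
  obtain ⟨x, hx⟩ : ∃ x : V, h • x ≠ x := by
    by_contra hc
    push Not at hc
    exact hh1 (hyp.faithful h hc)
  set w := h • x - x with hw
  have hw0 : w ≠ 0 := sub_ne_zero.2 hx
  have hhw : h • w = -w := by rw [hw, smul_sub, ← mul_smul, hhh, one_smul, neg_sub]
  have hne : -w ≠ w := by
    intro e
    have h2w : (2 : ℕ) • w = 0 := by
      rw [two_nsmul]; nth_rewrite 1 [← e]; rw [neg_add_cancel]
    have hd : addOrderOf w ∣ Nat.gcd 2 p :=
      Nat.dvd_gcd (addOrderOf_dvd_of_nsmul_eq_zero h2w) (addOrderOf_dvd_of_nsmul_eq_zero (hV w))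
    rw [(Nat.coprime_primes Nat.prime_two hp).2 (Ne.symm hp2), Nat.dvd_one,
      AddMonoid.addOrderOf_eq_one_iff] at hd
    exact hw0 hd
  set S : Subgroup H :=
    { carrier := {k | k • w = w ∨ k • w = -w}
      one_mem' := Or.inl (one_smul H w)
      mul_mem' := by
        rintro a b (ha | ha) (hb | hb)
        · exact Or.inl (by rw [mul_smul, hb, ha])
        · exact Or.inr (by rw [mul_smul, hb, smul_neg, ha])
        · exact Or.inr (by rw [mul_smul, hb, ha])
        · exact Or.inl (by rw [mul_smul, hb, smul_neg, ha, neg_neg])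
      inv_mem' := by
        rintro a (ha | ha)
        · exact Or.inl (by rw [inv_smul_eq_iff, ha])
        · exact Or.inr (by rw [inv_smul_eq_iff, smul_neg, ha, neg_neg]) } with hS
  have hStop : S = ⊤ := by
    rcases eq_top_or_le_of_stab hyp hw0 (S := S) fun k hk => Or.inl hk with e | e
    · have : h ∈ stabilizer H w := e ▸ (Or.inr hhw : h ∈ S)
      exact absurd ((mem_stabilizer_iff.1 this).symm.trans hhw).symm hne
    · exact e
  have hall : ∀ k : H, k • w = w ∨ k • w = -w := fun k =>
    show k ∈ S from hStop ▸ Subgroup.mem_top k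
  refine hyp.insoluble ?_
  have hcomm : ∀ a b : H, a * b = b * a := by
    intro a b
    have : (b * a)⁻¹ * (a * b) = 1 := eq_one_of_fix_orbit hyp hw0 fun k => by
      rw [mul_smul, inv_smul_eq_iff, mul_smul, mul_smul]
      rcases hall k with e | e <;> rcases hall a with ea | ea <;> rcases hall b with eb | eb <;>
        simp [e, ea, eb, smul_neg]
    rw [inv_mul_eq_one] at this
    exact this.symm
  exact Group.isSolvable_of_comm hcomm

end CfsgLib.Perm.EPAffine
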