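import Cfsg.Agent.Lib.Char.Frobenius
import Mathlib.GroupTheory.Sylow
import Mathlib.GroupTheory.Nilpotent

/-!
# A proper subgroup containing the normalisers of its nontrivial subgroups

Such a subgroup is a Frobenius complement, so it cannot exist in a simple group.
-/

set_option autoImplicit false
set_option linter.all false

namespace CfsgLib.Perm.EPAffine

open scoped Pointwise

variable {T : Type*} [Group T] [Finite T]

theorem isFrobeniusComplement_of_normalizer_le {K : Subgroup T} (h0 : K ≠ ⊥) (h1 : K ≠ ⊤)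
    (h : ∀ C : Subgroup T, C ≤ K → C ≠ ⊥ → Subgroup.normalizer (C : Set T) ≤ K) :
    Cfsg.IsFrobeniusComplement K := by
  refine ⟨h0, h1, fun g hg => ?_⟩
  by_contra hD
  set D := K ⊓ (MulAut.conj g • K) with hDdef
  obtain ⟨p, hp, hpd⟩ := Nat.exists_prime_and_dvd (n := Nat.card D)
    fun e => hD (Subgroup.card_eq_one.1 e)
  haveI := Fact.mk hp
  obtain ⟨P⟩ : Nonempty (Sylow p D) := inferInstance
  set P0 : Subgroup T := (P : Subgroup D).map D.subtype with hP0
  have hPD : P0 ≤ D := Subgroup.map_subtype_le _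
  have hP0b : P0 ≠ ⊥ := by
    intro e
    exact P.ne_bot_of_dvd_card hpd
      ((Subgroup.map_eq_bot_iff_of_injective _ D.subtype_injective).1 e)
  have hmemK : ∀ x ∈ D, g⁻¹ * x * g ∈ K := by
    intro x hx
    have := (Subgroup.mem_inf.1 hx).2
    exact CfsgLib.Frobenius.mem_conj_smul.1 this
  set P1 : Subgroup T := P0.map (MulAut.conj g⁻¹).toMonoidHom with hP1
  have hP1K : P1 ≤ K := by
    rintro _ ⟨x, hx, rfl⟩
    have := hmemK x (hPD hx)
    simpa [MulAut.conj_apply] using this
  have hP1b : P1 ≠ ⊥ := fun e => hP0b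
    ((Subgroup.map_eq_bot_iff_of_injective _ (MulAut.conj g⁻¹).injective).1 e)
  have hNK : Subgroup.normalizer (P0 : Set T) ≤ K := h P0 (hPD.trans inf_le_left) hP0b
  have hND : Subgroup.normalizer (P0 : Set T) ≤ D := by
    refine le_inf hNK fun n hn => ?_
    refine CfsgLib.Frobenius.mem_conj_smul.2 (h P1 hP1K hP1b ?_)
    have : MulAut.conj g⁻¹ n ∈ Subgroup.normalizer (P1 : Set T) :=
      Subgroup.le_normalizer_map (f := (MulAut.conj g⁻¹).toMonoidHom) (H := P0)
        (Subgroup.mem_map_of_mem _ hn)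
    simpa [MulAut.conj_apply] using this
  obtain ⟨R, hR⟩ := (P.isPGroup'.map D.subtype).exists_le_sylow
  have hRP : (R : Subgroup T) ≤ P0 := by
    by_contra hne
    haveI : Group.IsNilpotent (R : Subgroup T) := R.isPGroup'.isNilpotent
    have hlt : P0.subgroupOf R < ⊤ :=
      lt_top_iff_ne_top.2 fun e => hne (Subgroup.subgroupOf_eq_top.1 e)
    obtain ⟨⟨n, hnR⟩, hn, hnP⟩ :=
      SetLike.exists_of_lt (Group.normalizerCondition_of_isNilpotent _ hlt)
    have hn' : n ∈ Subgroup.normalizer (P0 : Set T) := by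
      refine Subgroup.mem_normalizer_iff.2 fun x => ⟨fun hx => ?_, fun hx => ?_⟩
      · exact (Subgroup.mem_normalizer_iff.1 hn ⟨x, hR hx⟩).1 hx
      · have hxR : x ∈ (R : Subgroup T) := by
          have := mul_mem (mul_mem (inv_mem hnR) (hR hx)) hnR
          simpa [mul_assoc] using this
        exact (Subgroup.mem_normalizer_iff.1 hn ⟨x, hxR⟩).2 hx
    have hnD := hND hn'
    have hQ : IsPGroup p ((R : Subgroup T).subgroupOf D) :=
      R.isPGroup'.comap_of_injective D.subtype D.subtype_injective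
    have hle : (P : Subgroup D) ≤ (R : Subgroup T).subgroupOf D := fun x hx =>
      hR ⟨x, hx, rfl⟩
    have heq := P.is_maximal' hQ hle
    refine hnP ?_
    have : (⟨n, hnD⟩ : D) ∈ (P : Subgroup D) := heq ▸ hnR
    exact ⟨_, this, rfl⟩
  have hR0 : (R : Subgroup T) = P0 := le_antisymm hRP hR
  set R' : Sylow p T := g⁻¹ • R with hR'
  have hRK : (R : Subgroup T) ≤ K := hR0 ▸ (hPD.trans inf_le_left)
  have hR'K : (R' : Subgroup T) ≤ K := by
    intro x hx
    rw [hR', Sylow.coe_subgroup_smul, Subgroup.mem_pointwise_smul_iff_inv_smul_mem] at hx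
    simp [MulAut.smul_def] at hx
    have := hmemK _ (hPD (hR0 ▸ hx))
    simpa [mul_assoc] using this
  obtain ⟨k, hk⟩ := MulAction.exists_smul_eq K (R.subtype hRK) (R'.subtype hR'K)
  rw [Sylow.smul_subtype] at hk
  have hk' := Sylow.subtype_injective hk
  have hgk : g * (k : T) ∈ Subgroup.normalizer ((R : Subgroup T) : Set T) := by
    refine Sylow.smul_eq_iff_mem_normalizer.1 ?_
    rw [mul_smul]
    have : (k : T) • R = g⁻¹ • R := hk'
    rw [this, smul_inv_smul]
  rw [hR0] at hgk
  have := mul_mem (hNK hgk) (inv_mem k.2)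
  rw [mul_inv_cancel_right] at this
  exact hg this

/-- A simple group has no such subgroup. -/
theorem false_of_normalizer_le [IsSimpleGroup T] {K : Subgroup T} (h0 : K ≠ ⊥) (h1 : K ≠ ⊤)
    (h : ∀ C : Subgroup T, C ≤ K → C ≠ ⊥ → Subgroup.normalizer (C : Set T) ≤ K) : False := by
  classical
  haveI := Fintype.ofFinite T
  obtain ⟨N, -, hN, hc⟩ := CfsgLib.Frobenius.exists_normal_complement
    (isFrobeniusComplement_of_normalizer_le h0 h1 h)
  rcases hN.eq_bot_or_eq_top with rfl | rfl
  · exact h1 (Subgroup.isComplement'_bot_left.1 hc)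
  · exact h0 (Subgroup.isComplement'_top_left.1 hc)

end CfsgLib.Perm.EPAffine
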