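import Cfsg.Agent.Lib.Perm.EPAffine.Socle
import Cfsg.Agent.Lib.Perm.EPAffine.Malnormal

/-!
# Linear groups with maximal stabilisers in characteristic two: the socle is simple

`T` is a simple factor of the minimal normal subgroup `M` and `T'` another one. If `g ∈ T`
normalises a nontrivial subgroup of `T` fixing `x`, then averaging over the products of `g` with
the elements of prime order of `T'` shows that `g` fixes `x`. So the stabiliser in `T` of a vector
fixed by an involution contains the normalisers of its nontrivial subgroups.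
-/

set_option autoImplicit false
set_option linter.all false

namespace CfsgLib.Perm.EPAffine

open MulAction Finset
open scoped Pointwise

variable {H V : Type*} [Group H] [Finite H] [AddCommGroup V] [DistribMulAction H V]

/-- A simple factor of a minimal normal subgroup. -/
structure IsFactor (M T : Subgroup H) : Prop where
  le : T ≤ M
  norm : M ≤ Subgroup.normalizer (T : Set H)
  ne_bot : T ≠ ⊥
  min : ∀ S : Subgroup H, S ≤ T → M ≤ Subgroup.normalizer (S : Set H) → S = ⊥ ∨ S = T

theorem exists_isFactor {M : Subgroup H} (hM0 : M ≠ ⊥) : ∃ T, IsFactor M T := by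
  obtain ⟨T, ⟨h1, h2, h3⟩, hmin⟩ := WellFounded.has_min (wellFounded_lt (α := Subgroup H))
    {T : Subgroup H | T ≤ M ∧ M ≤ Subgroup.normalizer (T : Set H) ∧ T ≠ ⊥}
    ⟨M, le_rfl, Subgroup.le_normalizer, hM0⟩
  refine ⟨T, h1, h2, h3, fun S hS hn => ?_⟩
  by_contra h
  push Not at h
  exact hmin S ⟨hS.trans h1, hn, h.1⟩ (lt_of_le_of_ne hS h.2)

theorem mem_smul_iff {X : Subgroup H} {h x : H} :
    x ∈ MulAut.conj h • X ↔ h⁻¹ * x * h ∈ X := CfsgLib.Frobenius.mem_conj_smul

theorem conj_mem_smul {X : Subgroup H} {h x : H} (hx : x ∈ X) :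
    h * x * h⁻¹ ∈ MulAut.conj h • X := by
  rw [mem_smul_iff, show h⁻¹ * (h * x * h⁻¹) * h = x by group]
  exact hx

theorem mem_normalizer_of_conj {X : Subgroup H} {g : H} (h : ∀ x ∈ X, g * x * g⁻¹ ∈ X) :
    g ∈ Subgroup.normalizer (X : Set H) := by
  refine Subgroup.mem_normalizer_iff.2 fun x => ⟨h x, fun hx => ?_⟩
  let f : X → X := fun z => ⟨g * z * g⁻¹, h z z.2⟩
  have hinj : Function.Injective f := fun a b e => by
    have := congrArg Subtype.val e
    exact Subtype.ext (mul_left_cancel (mul_right_cancel this))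
  obtain ⟨z, hz⟩ := (Finite.injective_iff_surjective.1 hinj) ⟨_, hx⟩
  have := congrArg Subtype.val hz
  exact (mul_left_cancel (mul_right_cancel this)) ▸ z.2

variable {M : Subgroup H} [hMn : M.Normal]

theorem IsFactor.smul {T : Subgroup H} (hT : IsFactor M T) (h : H) :
    IsFactor M (MulAut.conj h • T) := by
  refine ⟨fun x hx => ?_, fun m hm => ?_, fun e => ?_, fun S hS hn => ?_⟩
  · have := hMn.conj_mem _ (hT.le (mem_smul_iff.1 hx)) h
    simpa [mul_assoc] using this
  · refine Subgroup.mem_normalizer_iff.2 fun x => ?_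
    have h1 := Subgroup.mem_normalizer_iff.1 (hT.norm (hMn.conj_mem' m hm h)) (h⁻¹ * x * h)
    rw [mem_smul_iff, mem_smul_iff]
    simpa [mul_assoc] using h1
  · refine hT.ne_bot ((Subgroup.eq_bot_iff_forall _).2 fun x hx => ?_)
    have := conj_mem_smul (h := h) hx
    rw [e, Subgroup.mem_bot] at this
    simpa using this
  · have h1 : MulAut.conj h⁻¹ • S ≤ T := fun x hx => by
      have := hS (mem_smul_iff.1 hx)
      rw [mem_smul_iff] at this
      simpa [mul_assoc] using this
    have h2 : M ≤ Subgroup.normalizer ((MulAut.conj h⁻¹ • S : Subgroup H) : Set H) := fun m hm => by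
      refine Subgroup.mem_normalizer_iff.2 fun x => ?_
      have h3 := Subgroup.mem_normalizer_iff.1 (hn (hMn.conj_mem m hm h)) (h * x * h⁻¹)
      rw [mem_smul_iff, mem_smul_iff]
      simpa [mul_assoc] using h3
    have e : MulAut.conj h • (MulAut.conj h⁻¹ • S) = S := by rw [map_inv, smul_inv_smul]
    rcases hT.min _ h1 h2 with e' | e'
    · left; rw [← e, e', Subgroup.smul_bot]
    · right; rw [← e, e']

theorem IsFactor.commute {T T' : Subgroup H} (hT : IsFactor M T) (hT' : IsFactor M T')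
    (hne : T ≠ T') {x y : H} (hx : x ∈ T) (hy : y ∈ T') : x * y = y * x := by
  have hD : M ≤ Subgroup.normalizer ((T ⊓ T' : Subgroup H) : Set H) := fun m hm =>
    Subgroup.mem_normalizer_iff.2 fun z => by
      rw [Subgroup.mem_inf, Subgroup.mem_inf, Subgroup.mem_normalizer_iff.1 (hT.norm hm) z,
        Subgroup.mem_normalizer_iff.1 (hT'.norm hm) z]
  have hbot : T ⊓ T' = ⊥ := by
    rcases hT.min _ inf_le_left hD with e | e
    · exact e
    · rcases hT'.min _ inf_le_right hD with e' | e'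
      · exact e'
      · exact absurd (e.symm.trans e') hne
  refine commutatorElement_eq_one_iff_mul_comm.1 (Subgroup.mem_bot.1 (hbot ▸ ?_))
  rw [_root_.commutatorElement_def]
  refine Subgroup.mem_inf.2 ⟨?_, ?_⟩
  · rw [show x * y * x⁻¹ * y⁻¹ = x * (y * x⁻¹ * y⁻¹) by group]
    exact mul_mem hx ((Subgroup.mem_normalizer_iff.1 (hT.norm (hT'.le hy)) _).1 (inv_mem hx))
  · exact mul_mem ((Subgroup.mem_normalizer_iff.1 (hT'.norm (hT.le hx)) _).1 hy) (inv_mem hy)

theorem iSup_smul_normal (T : Subgroup H) : (⨆ h : H, MulAut.conj h • T).Normal := by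
  refine ⟨fun x hx g => ?_⟩
  refine Subgroup.iSup_induction _ (C := fun x => g * x * g⁻¹ ∈ ⨆ h : H, MulAut.conj h • T) hx ?_ ?_ ?_
  · intro h z hz
    refine Subgroup.mem_iSup_of_mem (g * h) ?_
    rw [mem_smul_iff] at hz ⊢
    rwa [show (g * h)⁻¹ * (g * z * g⁻¹) * (g * h) = h⁻¹ * z * h by group]
  · simp
  · intro a b ha hb
    rw [show g * (a * b) * g⁻¹ = (g * a * g⁻¹) * (g * b * g⁻¹) by group]
    exact mul_mem ha hb

variable (hM0 : M ≠ ⊥) (hmin : ∀ K : Subgroup H, K.Normal → K ≤ M → K = ⊥ ∨ K = M)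

include hM0 hmin in
theorem IsFactor.iSup_eq {T : Subgroup H} (hT : IsFactor M T) :
    ⨆ h : H, MulAut.conj h • T = M := by
  refine (hmin _ (iSup_smul_normal T) (iSup_le fun h => (hT.smul h).le)).resolve_left fun e => ?_
  refine hT.ne_bot (le_bot_iff.1 (le_trans ?_ e.le))
  exact fun x hx => Subgroup.mem_iSup_of_mem 1 (by rw [mem_smul_iff]; simpa using hx)

include hM0 hmin in
theorem IsFactor.simple {T : Subgroup H} (hT : IsFactor M T) : IsSimpleGroup T := by
  haveI : Nontrivial T := T.nontrivial_iff_ne_bot.2 hT.ne_bot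
  refine ⟨fun N hN => ?_⟩
  set S := N.map T.subtype
  have hSn : M ≤ Subgroup.normalizer (S : Set H) := by
    rw [← hT.iSup_eq hM0 hmin]
    refine iSup_le fun h => ?_
    by_cases e : MulAut.conj h • T = T
    · rw [e]
      intro t ht
      refine Subgroup.mem_normalizer_iff.2 fun x => ⟨?_, ?_⟩
      · rintro ⟨n, hn, rfl⟩
        exact ⟨⟨t, ht⟩ * n * ⟨t, ht⟩⁻¹, hN.conj_mem n hn _, rfl⟩
      · rintro ⟨n, hn, e⟩
        refine ⟨⟨t, ht⟩⁻¹ * n * ⟨t, ht⟩, hN.conj_mem' n hn _, ?_⟩
        show t⁻¹ * (n : H) * t = x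
        have e' : (n : H) = t * x * t⁻¹ := e
        rw [e']; group
    · intro t ht
      refine Subgroup.le_centralizer_iff.1 ?_ ht |> fun hc =>
        Subgroup.centralizer_le_normalizer _ hc
      exact fun x hx => Subgroup.mem_centralizer_iff.2 fun y hy =>
        (hT.smul h).commute hT e hy (Subgroup.map_subtype_le N hx)
  rcases hT.min S (Subgroup.map_subtype_le N) hSn with e | e
  · left
    exact (Subgroup.map_eq_bot_iff_of_injective N T.subtype_injective).1 e
  · right
    refine Subgroup.map_injective T.subtype_injective ?_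
    rw [← MonoidHom.range_eq_map, Subgroup.range_subtype]
    exact e

include hM0 hmin in
theorem IsFactor.not_comm {T : Subgroup H} (hT : IsFactor M T) (hns : ¬ Group.IsSolvable M) :
    ¬ IsMulCommutative T := by
  intro hc
  have hTc : ∀ a ∈ T, ∀ b ∈ T, a * b = b * a := fun a ha b hb =>
    congrArg Subtype.val (hc.is_comm.comm ⟨a, ha⟩ ⟨b, hb⟩)
  have h1 : ∀ h k : H, MulAut.conj k • T ≤
      Subgroup.centralizer ((MulAut.conj h • T : Subgroup H) : Set H) := by
    intro h k y hy
    refine Subgroup.mem_centralizer_iff.2 fun x hx => ?_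
    by_cases e : MulAut.conj h • T = MulAut.conj k • T
    · have hx' : x ∈ MulAut.conj k • T := e ▸ hx
      have := hTc _ (mem_smul_iff.1 hx') _ (mem_smul_iff.1 hy)
      calc x * y = k * ((k⁻¹ * x * k) * (k⁻¹ * y * k)) * k⁻¹ := by group
        _ = k * ((k⁻¹ * y * k) * (k⁻¹ * x * k)) * k⁻¹ := by rw [this]
        _ = y * x := by group
    · exact (hT.smul h).commute (hT.smul k) e hx hy
  have h2 : M ≤ Subgroup.centralizer (M : Set H) := by
    rw [Subgroup.le_centralizer_iff]
    nth_rewrite 1 [← hT.iSup_eq hM0 hmin]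
    refine iSup_le fun h => ?_
    rw [Subgroup.le_centralizer_iff]
    nth_rewrite 1 [← hT.iSup_eq hM0 hmin]
    exact iSup_le fun k => h1 h k
  exact hns (Group.isSolvable_of_comm fun a b => Subtype.ext
    ((Subgroup.mem_centralizer_iff.1 (h2 b.2)) a a.2))

variable (hyp : Hyp H V) (h2 : ∀ v : V, v + v = 0)

include hyp hmin in
/-- If a vector is fixed by a nontrivial element of `T` and by `g * b`, with `g ∈ T` and `b` in
another factor, then it is fixed by `g`. -/
theorem split {T T' : Subgroup H} (hT : IsFactor M T) (hT' : IsFactor M T') (hne : T ≠ T')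
    {v : V} (hv : v ≠ 0) {c g b : H} (hc : c ∈ T) (hc1 : c ≠ 1) (hcv : c • v = v) (hg : g ∈ T)
    (hb : b ∈ T') (hgb : (g * b) • v = v) : g • v = v := by
  set A := T ⊓ stabilizer H v with hA
  set A' : Subgroup H := ⨆ s : stabilizer H v, MulAut.conj (s : H) • A with hA'
  have hstab : stabilizer H v ≤ Subgroup.normalizer (A' : Set H) := by
    intro t ht
    have key : ∀ u ∈ stabilizer H v, ∀ x ∈ A', u * x * u⁻¹ ∈ A' := by
      intro u hu x hx
      refine Subgroup.iSup_induction _ (C := fun x => u * x * u⁻¹ ∈ A') hx ?_ ?_ ?_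
      · intro s z hz
        refine Subgroup.mem_iSup_of_mem ⟨u * s, mul_mem hu s.2⟩ ?_
        rw [mem_smul_iff] at hz ⊢
        show (u * s)⁻¹ * (u * z * u⁻¹) * (u * s) ∈ A
        rwa [show (u * (s : H))⁻¹ * (u * z * u⁻¹) * (u * s) = (s : H)⁻¹ * z * s by group]
      · simp
      · intro a b ha hb
        rw [show u * (a * b) * u⁻¹ = (u * a * u⁻¹) * (u * b * u⁻¹) by group]
        exact mul_mem ha hb
    refine Subgroup.mem_normalizer_iff.2 fun x => ⟨key t ht x, fun hx => ?_⟩
    have := key t⁻¹ (inv_mem ht) _ hx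
    simpa [mul_assoc] using this
  have hAle : A' ≤ M ⊓ stabilizer H v := iSup_le fun s x hx => by
    obtain ⟨hxT, hxv⟩ := Subgroup.mem_inf.1 (mem_smul_iff.1 hx)
    refine Subgroup.mem_inf.2 ⟨?_, ?_⟩
    · have := hMn.conj_mem _ (hT.le hxT) (s : H)
      simpa [mul_assoc] using this
    · have := mul_mem (mul_mem s.2 hxv) (inv_mem s.2)
      simpa [mul_assoc] using this
  have hnotN : Subgroup.normalizer (A' : Set H) ≠ ⊤ := by
    intro e
    haveI : A'.Normal := Subgroup.normalizer_eq_top_iff.1 e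
    have h1 := normal_le_stab hyp hv (hAle.trans inf_le_right)
    have h2 : c ∈ A' := Subgroup.mem_iSup_of_mem ⟨1, one_mem _⟩
      (by rw [mem_smul_iff]; simpa [hA] using And.intro hc hcv)
    rw [h1, Subgroup.mem_bot] at h2
    exact hc1 h2
  have heq := (eq_top_or_le_of_stab hyp hv hstab).resolve_right hnotN
  have hgT' : ∀ x ∈ T, b * x * b⁻¹ = x := fun x hx => by
    rw [← hT.commute hT' hne hx hb, mul_inv_cancel_right]
  have hgA : ∀ x ∈ A, g * x * g⁻¹ ∈ A := by
    intro x hx
    obtain ⟨hxT, hxv⟩ := Subgroup.mem_inf.1 hx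
    refine Subgroup.mem_inf.2 ⟨mul_mem (mul_mem hg hxT) (inv_mem hg), ?_⟩
    have h1 := mul_mem (mul_mem (show g * b ∈ stabilizer H v from hgb) hxv)
      (inv_mem (show g * b ∈ stabilizer H v from hgb))
    rwa [show g * b * x * (g * b)⁻¹ = g * (b * x * b⁻¹) * g⁻¹ by group, hgT' x hxT] at h1
  have hgA' : g ∈ Subgroup.normalizer (A' : Set H) := by
    refine mem_normalizer_of_conj fun x hx => ?_
    refine Subgroup.iSup_induction _ (C := fun x => g * x * g⁻¹ ∈ A') hx ?_ ?_ ?_
    · intro s z hz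
      refine Subgroup.mem_iSup_of_mem s ?_
      by_cases e : MulAut.conj (s : H) • T = T
      · have hAA : MulAut.conj (s : H) • A = A := by
          rw [hA, Subgroup.smul_inf, e]
          congr 1
          ext y
          rw [mem_smul_iff]
          exact ⟨fun hy => by simpa [mul_assoc] using mul_mem (mul_mem s.2 hy) (inv_mem s.2),
            fun hy => mul_mem (mul_mem (inv_mem s.2) hy) s.2⟩
        rw [hAA] at hz ⊢
        exact hgA z hz
      · have hzT : z ∈ MulAut.conj (s : H) • T := by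
          rw [mem_smul_iff] at hz ⊢
          exact (Subgroup.mem_inf.1 hz).1
        rw [← (hT.smul (s : H)).commute hT e hzT hg, mul_inv_cancel_right]
        exact hz
    · simp
    · intro a b ha hb
      rw [show g * (a * b) * g⁻¹ = (g * a * g⁻¹) * (g * b * g⁻¹) by group]
      exact mul_mem ha hb
  rw [heq] at hgA'
  exact hgA'

include hyp hM0 hmin in
/-- No nonzero vector is fixed by a whole factor. -/
theorem IsFactor.not_le_stab {T : Subgroup H} (hT : IsFactor M T) {v : V} (hv : v ≠ 0) :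
    ¬ T ≤ stabilizer H v := by
  intro hle
  refine hM0 (normal_le_stab hyp hv (X := M) ?_)
  nth_rewrite 1 [← hT.iSup_eq hM0 hmin]
  refine iSup_le fun h x hx => ?_
  obtain ⟨m, hm, s, hs, hh⟩ := exists_factor hyp hv hM0 h⁻¹
  have h1 : m⁻¹ * (h⁻¹ * x * h) * m ∈ T := by
    have := (Subgroup.mem_normalizer_iff.1 (hT.norm (inv_mem hm)) _).1 (mem_smul_iff.1 hx)
    simpa [mul_assoc] using this
  have h3 := mul_mem (mul_mem (inv_mem hs) (hle h1)) hs
  have h4 : h = s⁻¹ * m⁻¹ := by rw [← mul_inv_rev, ← hh, inv_inv]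
  rw [h4] at h3
  simp only [mul_assoc, mul_inv_rev, inv_inv] at h3
  simpa [mul_assoc] using h3

include hyp h2 hM0 hmin in
/-- The key step. -/
theorem fix_normalizer {T : Subgroup H} (hT : IsFactor M T) {h₀ : H}
    (hne : MulAut.conj h₀ • T ≠ T) {C : Subgroup H} (hCT : C ≤ T) (hC0 : C ≠ ⊥) :
    ∀ g : H, g ∈ T → g ∈ Subgroup.normalizer (C : Set H) → ∀ x : V, (∀ c ∈ C, c • x = x) →
      g • x = x := by
  intro g
  induction hn : orderOf g using Nat.strong_induction_on generalizing g with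
  | _ n ih =>
  intro hg hgC x hx
  rcases eq_or_ne g 1 with rfl | hg1
  · exact one_smul H x
  obtain ⟨r, hr, hrn⟩ := Nat.exists_prime_and_dvd (n := orderOf g)
    fun e => hg1 (orderOf_eq_one_iff.1 e)
  haveI := Fact.mk hr
  have hn0 : 0 < orderOf g := orderOf_pos g
  have hgr : g ^ r • x = x := by
    refine ih (orderOf (g ^ r)) ?_ (g ^ r) rfl (pow_mem hg r) (pow_mem hgC r) x hx
    rw [← hn, orderOf_pow_of_dvd hr.ne_zero hrn]
    exact Nat.div_lt_self hn0 hr.one_lt
  set T' := MulAut.conj h₀ • T with hT'def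
  have hT' : IsFactor M T' := hT.smul h₀
  set u := g • x - x with hu
  suffices hsuff : ∀ b ∈ T', b ^ r = 1 → b • u = u by
    by_contra hgx
    have hu0 : u ≠ 0 := sub_ne_zero.2 hgx
    set D := Subgroup.closure {b : H | b ∈ T' ∧ b ^ r = 1} with hD
    have hDT : D ≤ T' := (Subgroup.closure_le _).2 fun b hb => hb.1
    have hDn : M ≤ Subgroup.normalizer (D : Set H) := by
      intro m hm
      refine mem_normalizer_of_conj fun d hd => ?_
      induction hd using Subgroup.closure_induction with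
      | mem d hd =>
        exact Subgroup.subset_closure ⟨(Subgroup.mem_normalizer_iff.1 (hT'.norm hm) d).1 hd.1, by
          rw [conj_pow, hd.2, mul_one, mul_inv_cancel]⟩
      | one => simp
      | mul a b _ _ ha hb =>
        rw [show m * (a * b) * m⁻¹ = (m * a * m⁻¹) * (m * b * m⁻¹) by group]
        exact mul_mem ha hb
      | inv a _ ha =>
        rw [show m * a⁻¹ * m⁻¹ = (m * a * m⁻¹)⁻¹ by group]
        exact inv_mem ha
    have hDb : D ≠ ⊥ := by
      intro e
      have hmem : h₀ * g ^ (orderOf g / r) * h₀⁻¹ ∈ D := Subgroup.subset_closure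
        ⟨conj_mem_smul (pow_mem hg _), by
          rw [conj_pow, ← pow_mul, Nat.div_mul_cancel hrn, pow_orderOf_eq_one, mul_one,
            mul_inv_cancel]⟩
      rw [e, Subgroup.mem_bot, conj_eq_one_iff] at hmem
      have hd := Nat.le_of_dvd (Nat.div_pos (Nat.le_of_dvd hn0 hrn) hr.pos)
        (orderOf_dvd_of_pow_eq_one hmem)
      exact absurd hd (Nat.not_le.2 (Nat.div_lt_self hn0 hr.one_lt))
    refine hT'.not_le_stab hM0 hmin hyp hu0 (((hT'.min D hDT hDn).resolve_left hDb) ▸ ?_)
    exact (Subgroup.closure_le _).2 fun b hb => hsuff b hb.1 hb.2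
  intro b hb hbr
  have hgb : g * b = b * g := hT.commute hT' (Ne.symm hne) hg hb
  obtain ⟨c, hc, hc1⟩ : ∃ c ∈ C, c ≠ 1 := by
    by_contra h
    push Not at h
    exact hC0 ((Subgroup.eq_bot_iff_forall _).2 h)
  have hz : ∀ j : ℕ, g • ∑ i ∈ range r, (g * b ^ j) ^ i • x =
      ∑ i ∈ range r, (g * b ^ j) ^ i • x := by
    intro j
    set y := g * b ^ j with hy
    rcases eq_or_ne (∑ i ∈ range r, y ^ i • x) 0 with e | e
    · rw [e, smul_zero]
    have hyC : y ∈ Subgroup.normalizer (C : Set H) := by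
      refine mul_mem hgC (Subgroup.centralizer_le_normalizer _ ?_)
      exact Subgroup.mem_centralizer_iff.2 fun z hzC =>
        hT.commute hT' (Ne.symm hne) (hCT hzC) (pow_mem hb j)
    have hyr : y ^ r • x = x := by
      rw [hy, (Commute.pow_right hgb j).mul_pow, ← pow_mul, mul_comm j r, pow_mul, hbr, one_pow,
        mul_one, hgr]
    have hcz : c • ∑ i ∈ range r, y ^ i • x = ∑ i ∈ range r, y ^ i • x := by
      rw [Finset.smul_sum]
      refine Finset.sum_congr rfl fun i _ => ?_
      have h1 := (Subgroup.mem_normalizer_iff.1 (inv_mem (pow_mem hyC i)) c).1 hc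
      rw [inv_inv] at h1
      rw [← mul_smul, show c * y ^ i = y ^ i * ((y ^ i)⁻¹ * c * y ^ i) by group, mul_smul, hx _ h1]
    exact split hmin hyp hT hT' (Ne.symm hne) e (hCT hc) hc1 hcz hg (pow_mem hb j)
      (smul_cyclic_sum hyr)
  set y := ∑ j ∈ range r, b ^ j • x with hydef
  have hby : b • y = y := smul_cyclic_sum (by rw [hbr, one_smul])
  have hgry : g ^ r • y = y := by
    rw [hydef, Finset.smul_sum]
    refine Finset.sum_congr rfl fun j _ => ?_
    rw [← mul_smul, ((Commute.pow_pow (show Commute g b from hgb) r j)).eq, mul_smul, hgr]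
  have hS : g • ∑ i ∈ Ico 1 r, g ^ i • y = (∑ i ∈ Ico 1 r, g ^ i • y) + (y - g • y) := by
    have h1 : g • ∑ i ∈ range r, g ^ i • y = ∑ i ∈ range r, g ^ i • y := smul_cyclic_sum hgry
    rw [range_eq_Ico, Finset.sum_eq_sum_Ico_succ_bot hr.pos, pow_zero, one_smul, smul_add,
      zero_add] at h1
    have h3 : g • ∑ i ∈ Ico 1 r, g ^ i • y = (y + ∑ i ∈ Ico 1 r, g ^ i • y) - g • y :=
      eq_sub_of_add_eq' h1
    rw [h3]
    abel
  have hid : g • ∑ j ∈ range r, ∑ i ∈ range r, (g * b ^ j) ^ i • x =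
      ∑ j ∈ range r, ∑ i ∈ range r, (g * b ^ j) ^ i • x := by
    rw [Finset.smul_sum]
    exact Finset.sum_congr rfl fun j _ => hz j
  rw [sum_identity hr hgb hbr x, ← hydef, smul_add, hS, smul_comm g r x] at hid
  have hru : r • u = g • y - y := by
    rw [hu, smul_sub]
    have h4 : r • g • x = r • x - (y - g • y) := by
      rw [eq_sub_iff_add_eq]
      exact add_right_cancel (b := ∑ i ∈ Ico 1 r, g ^ i • y)
        (by rw [← hid]; abel)
    rw [h4]
    abel
  rcases hr.eq_two_or_odd' with rfl | hodd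
  · rw [two_nsmul, h2, eq_comm, sub_eq_zero] at hru
    have hy2 : y = x + b • x := by simp [hydef, Finset.sum_range_succ]
    rw [hy2, smul_add, ← mul_smul] at hru
    have hbu : b • u = (g * b) • x - b • x := by rw [hu, smul_sub, ← mul_smul, ← hgb]
    rw [hbu, hu]
    have h5 : (g * b) • x = x + b • x - g • x := eq_sub_of_add_eq' hru
    rw [h5, show x + b • x - g • x - b • x = -(g • x - x) by abel, neg_eq' h2]
  · rw [nsmul_odd h2 hodd] at hru
    rw [hru, smul_sub, hby, ← mul_smul, ← hgb, mul_smul, hby]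

include hyp h2 hM0 hmin in
theorem factor_eq (hodd : ∀ X : Subgroup H, Odd (Nat.card X) → Group.IsSolvable X)
    {T : Subgroup H} (hT : IsFactor M T) : T = M := by
  haveI := hT.simple hM0 hmin
  have hns : ¬ IsMulCommutative T := hT.not_comm hM0 hmin (not_solvable hyp h2 hM0 hmin)
  by_contra hTM
  obtain ⟨h₀, hne⟩ : ∃ h : H, MulAut.conj h • T ≠ T := by
    by_contra h
    push Not at h
    refine hTM ?_
    rw [← hT.iSup_eq hM0 hmin]
    simp [h]
  have h2T : 2 ∣ Nat.card T := by
    by_contra h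
    haveI := hodd T (Nat.odd_iff.2 (by omega))
    exact hns (CfsgLib.Core.commutative_of_minimal_normal (⊤ : Subgroup T)
      inferInstance top_ne_bot (fun K hK _ => hK.eq_bot_or_eq_top) |> fun h' =>
        ⟨⟨fun a b => congrArg Subtype.val
          (h'.is_comm.comm ⟨a, Subgroup.mem_top a⟩ ⟨b, Subgroup.mem_top b⟩)⟩⟩)
  haveI : Fact (Nat.Prime 2) := ⟨Nat.prime_two⟩
  obtain ⟨⟨c, hc⟩, hc2⟩ := exists_prime_orderOf_dvd_card' (G := T) 2 h2T
  rw [Subgroup.orderOf_mk] at hc2
  obtain ⟨v, hv, hcv⟩ :=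
    exists_fixed_vector hyp h2 (c := c) (by rw [← sq, ← hc2, pow_orderOf_eq_one])
  refine false_of_normalizer_le (K := (stabilizer H v).subgroupOf T) ?_ ?_ fun C hCK hC0 g hg => ?_
  · intro e
    have h : (⟨c, hc⟩ : T) ∈ (stabilizer H v).subgroupOf T := hcv
    rw [e, Subgroup.mem_bot] at h
    rw [show c = 1 from congrArg Subtype.val h, orderOf_one] at hc2
    omega
  · intro e
    exact hT.not_le_stab hM0 hmin hyp hv (Subgroup.subgroupOf_eq_top.1 e)
  · refine fix_normalizer hM0 hmin hyp h2 hT hne (C := C.map T.subtype)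
      (Subgroup.map_subtype_le C) (fun e => hC0
        ((Subgroup.map_eq_bot_iff_of_injective C T.subtype_injective).1 e))
      g g.2 (Subgroup.le_normalizer_map (f := T.subtype) (H := C) (Subgroup.mem_map_of_mem _ hg)) v ?_
    rintro _ ⟨x, hx, rfl⟩
    exact hCK hx

end CfsgLib.Perm.EPAffine
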