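import Cfsg.Agent.Lib.Perm.EPAffine.Factor

/-!
# Insoluble extremely primitive groups of affine type

`insoluble_extremelyPrimitive_affine`: the characteristic is two and a point stabiliser is almost
simple (also in the doubly transitive case).
-/

set_option autoImplicit false
set_option linter.all false

namespace CfsgLib.Perm.EPAffine

open MulAction

/-- A linear group with maximal stabilisers is almost simple in characteristic two. -/
theorem almostSimple {H V : Type*} [Group H] [Finite H] [AddCommGroup V] [DistribMulAction H V]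
    (hyp : Hyp H V) (h2 : ∀ v : V, v + v = 0)
    (hodd : ∀ X : Subgroup H, Odd (Nat.card X) → Group.IsSolvable X) :
    ∃ T : Subgroup H, T.Normal ∧ IsSimpleGroup T ∧ ¬ IsMulCommutative T ∧
      Subgroup.centralizer (T : Set H) = ⊥ := by
  have htop : (⊤ : Subgroup H) ≠ ⊥ := by
    intro e
    refine hyp.insoluble (Group.isSolvable_of_comm fun a b => ?_)
    have ha : a = 1 := Subgroup.mem_bot.1 (e ▸ Subgroup.mem_top a)
    rw [ha, one_mul, mul_one]
  obtain ⟨M, hMn, hM0, -, hmin⟩ := CfsgLib.Core.exists_minimal_normal_le' (⊤ : Subgroup H) htop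
  haveI := hMn
  obtain ⟨T, hT⟩ := exists_isFactor (M := M) hM0
  have e := factor_eq hM0 hmin hyp h2 hodd hT
  subst e
  exact ⟨T, hMn, hT.simple hM0 hmin, hT.not_comm hM0 hmin (not_solvable hyp h2 hM0 hmin),
    centralizer_eq_bot hyp h2 hM0 hmin (hodd T)⟩


/-- Insoluble extremely primitive groups of affine type. -/
theorem insoluble_extremelyPrimitive_affine {G : Type*} [Group G] [Finite G]
    (hFT : ∀ X : Subgroup G, Odd (Nat.card X) → Group.IsSolvable X)
    {Ω : Type*} [Finite Ω] [MulAction G Ω] [FaithfulSMul G Ω] {p d : ℕ} (hp : p.Prime)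
    (hcard : Nat.card Ω = p ^ d) (hsol : ¬ Group.IsSolvable G)
    (N : Subgroup G) [hNn : N.Normal] (hN : N ≠ ⊥) (hNc : IsMulCommutative N)
    (hNreg : ∀ ω : Ω, stabilizer N ω = ⊥) (hprim : IsPreprimitive G Ω)
    (hep : ∀ α ω : Ω, IsPreprimitive (stabilizer G α) (orbit (stabilizer G α) ω)) (α : Ω) :
    p = 2 ∧ ∃ T : Subgroup (stabilizer G α), T.Normal ∧ IsSimpleGroup T ∧ ¬ IsMulCommutative T ∧
      Subgroup.centralizer (T : Set (stabilizer G α)) = ⊥ := by
  haveI := hprim
  have hfix : fixedPoints N Ω ≠ .univ := by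
    intro h
    refine hN ((Subgroup.eq_bot_iff_forall _).2 fun n hn =>
      FaithfulSMul.eq_of_smul_eq_smul (α := Ω) fun ω => ?_)
    rw [one_smul]
    exact (Set.eq_univ_iff_forall.1 h ω) ⟨n, hn⟩
  haveI htr : IsPretransitive N Ω := IsQuasiPreprimitive.isPretransitive_of_normal hfix
  have hreg : ∀ n : G, n ∈ N → n • α = α → n = 1 := fun n hn e => by
    have h : (⟨n, hn⟩ : N) ∈ stabilizer N α := mem_stabilizer_iff.2 e
    rw [hNreg α, Subgroup.mem_bot] at h
    exact congrArg Subtype.val h
  have hdec : ∀ g : G, ∃ n ∈ N, ∃ h ∈ stabilizer G α, g = n * h := by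
    intro g
    obtain ⟨n, hn⟩ := exists_smul_eq N α (g • α)
    exact ⟨n, n.2, (n : G)⁻¹ * g, mem_stabilizer_iff.2 (by
      rw [mul_smul, ← hn, Subgroup.smul_def, inv_smul_smul]), by group⟩
  have hbij : Function.Bijective fun n : N => (n : G) • α := by
    refine ⟨fun a b e => ?_, fun ω => exists_smul_eq N α ω⟩
    simp only at e
    have := hreg _ (mul_mem (inv_mem b.2) a.2) (by rw [mul_smul, e, inv_smul_smul])
    exact (Subtype.ext (inv_mul_eq_one.1 this)).symm
  let _ : CommGroup N :=
    { (inferInstance : Group N) with mul_comm := hNc.is_comm.comm }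
  let φ : stabilizer G α →* MulAut N := MulAut.conjNormal.comp (stabilizer G α).subtype
  let _ : DistribMulAction (stabilizer G α) (Additive N) :=
    { smul := fun h v => Additive.ofMul (φ h v.toMul)
      one_smul := fun v => by show Additive.ofMul (φ 1 v.toMul) = v; rw [map_one]; rfl
      mul_smul := fun a b v => by
        show Additive.ofMul (φ (a * b) v.toMul) = Additive.ofMul (φ a (φ b v.toMul))
        rw [map_mul]; rfl
      smul_zero := fun h => by show Additive.ofMul (φ h 1) = 0; rw [map_one]; rfl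
      smul_add := fun h v w => by
        show Additive.ofMul (φ h (v.toMul * w.toMul)) = _
        rw [map_mul]; rfl }
  have hval : ∀ (h : stabilizer G α) (v : Additive N),
      (((h • v).toMul : N) : G) = (h : G) * (v.toMul : G) * (h : G)⁻¹ := fun h v => rfl
  have hpt : ∀ (h : stabilizer G α) (v : Additive N),
      (((h • v).toMul : N) : G) • α = h • ((v.toMul : G) • α) := by
    intro h v
    rw [hval, mul_smul, mul_smul, inv_smul_eq_iff.2 (mem_stabilizer_iff.1 h.2).symm]
    rfl
  have hns : ¬ Group.IsSolvable (stabilizer G α) := by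
    intro hs
    haveI := hs
    haveI : Group.IsSolvable N := Group.isSolvable_of_comm hNc.is_comm.comm
    have hsurj : Function.Surjective ((QuotientGroup.mk' N).comp (stabilizer G α).subtype) := by
      intro x
      obtain ⟨g, rfl⟩ := QuotientGroup.mk'_surjective N x
      obtain ⟨n, hn, h, hh, rfl⟩ := hdec g
      refine ⟨⟨h, hh⟩, ?_⟩
      show QuotientGroup.mk' N h = QuotientGroup.mk' N (n * h)
      rw [map_mul, (QuotientGroup.eq_one_iff n).2 hn |> fun e => show QuotientGroup.mk' N n = 1 from e,
        one_mul]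
    haveI : Group.IsSolvable (G ⧸ N) := Group.isSolvable_of_surjective hsurj
    exact hsol (Group.isSolvable_of_ker_le_range N.subtype (QuotientGroup.mk' N) (by
      rw [QuotientGroup.ker_mk', Subgroup.range_subtype]))
  have hirr : ∀ W : AddSubgroup (Additive N),
      (∀ h : stabilizer G α, ∀ w ∈ W, h • w ∈ W) → W = ⊥ ∨ W = ⊤ := by
    intro W hW
    set K : Subgroup G := (AddSubgroup.toSubgroup' W).map N.subtype with hK
    by_cases hW0 : W = ⊥
    · exact Or.inl hW0
    have hKn : K.Normal := by
      refine ⟨?_⟩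
      rintro _ ⟨w, hw, rfl⟩ g
      obtain ⟨n, hn, h, hh, rfl⟩ := hdec g
      refine ⟨(((⟨h, hh⟩ : stabilizer G α) • Additive.ofMul w).toMul), hW ⟨h, hh⟩ _ hw, ?_⟩
      rw [Subgroup.coe_subtype, hval]
      have e : n * (h * (w : G) * h⁻¹) = h * (w : G) * h⁻¹ * n :=
        congrArg Subtype.val (hNc.is_comm.comm ⟨n, hn⟩ ⟨_, hNn.conj_mem _ w.2 h⟩)
      show h * (w : G) * h⁻¹ = n * h * (w : G) * (n * h)⁻¹
      rw [show n * h * (w : G) * (n * h)⁻¹ = n * (h * (w : G) * h⁻¹) * n⁻¹ by group, e,
        mul_inv_cancel_right]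
    haveI := hKn
    obtain ⟨⟨w, hw⟩, hw1⟩ : ∃ w : W, (w : Additive N) ≠ 0 := by
      by_contra h
      push Not at h
      exact hW0 ((AddSubgroup.eq_bot_iff_forall W).2 fun x hx => h ⟨x, hx⟩)
    have hfixK : fixedPoints K Ω ≠ .univ := by
      intro h
      refine hw1 (Subtype.ext ?_ : (Additive.toMul w : N) = 1)
      refine FaithfulSMul.eq_of_smul_eq_smul (α := Ω) fun ω => ?_
      rw [OneMemClass.coe_one, one_smul]
      exact (Set.eq_univ_iff_forall.1 h ω) ⟨_, w.toMul, hw, rfl⟩
    haveI : IsPretransitive K Ω := IsQuasiPreprimitive.isPretransitive_of_normal hfixK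
    refine Or.inr (eq_top_iff.2 fun v _ => ?_)
    obtain ⟨⟨_, u, hu, rfl⟩, he⟩ := exists_smul_eq K α ((v.toMul : G) • α)
    have e : u = v.toMul := hbij.1 he
    rw [e] at hu
    exact hu
  have hfaith : ∀ h : stabilizer G α, (∀ v : Additive N, h • v = v) → h = 1 := by
    intro h hh
    refine Subtype.ext (FaithfulSMul.eq_of_smul_eq_smul (α := Ω) fun ω => ?_)
    obtain ⟨n, rfl⟩ := hbij.2 ω
    rw [OneMemClass.coe_one, one_smul]
    exact ((hpt h (Additive.ofMul n)).symm).trans (by rw [hh]; rfl)
  have hmax : ∀ v : Additive N, v ≠ 0 → IsCoatom (stabilizer (stabilizer G α) v) := by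
    intro v hv
    set β := (v.toMul : G) • α with hβ
    have heq : stabilizer (stabilizer G α) v = stabilizer (stabilizer G α) β := by
      ext h
      rw [mem_stabilizer_iff, mem_stabilizer_iff, hβ, ← hpt]
      refine ⟨fun e => by rw [e], fun e => ?_⟩
      exact Additive.toMul.injective (hbij.1 e)
    haveI := hep α β
    have hnt : Nontrivial (orbit (stabilizer G α) β) := by
      by_contra hc
      rw [not_nontrivial_iff_subsingleton] at hc
      have hall : ∀ h : stabilizer G α, h • v = v := fun h => by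
        rw [← mem_stabilizer_iff, heq, mem_stabilizer_iff]
        exact congrArg Subtype.val
          (Subsingleton.elim (⟨h • β, mem_orbit β h⟩ : orbit (stabilizer G α) β) ⟨β, mem_orbit_self β⟩)
      have hW : AddSubgroup.zmultiples v = ⊤ := by
        refine (hirr _ ?_).resolve_left fun e => hv (AddSubgroup.zmultiples_eq_bot.1 e)
        intro h w hw
        obtain ⟨k, rfl⟩ := AddSubgroup.mem_zmultiples_iff.1 hw
        rw [smul_comm, hall]
        exact AddSubgroup.zsmul_mem_zmultiples v k
      refine hns (Group.isSolvable_of_comm fun a b => ?_)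
      have h1 : ∀ a : stabilizer G α, a = 1 := fun a => hfaith a fun w => by
        obtain ⟨k, rfl⟩ := AddSubgroup.mem_zmultiples_iff.1 (hW ▸ AddSubgroup.mem_top w)
        rw [smul_comm, hall]
      rw [h1 a, h1 b]
    haveI := hnt
    have h := IsPreprimitive.isCoatom_stabilizer_of_isPreprimitive (stabilizer G α)
      (⟨β, mem_orbit_self β⟩ : orbit (stabilizer G α) β)
    have e : stabilizer (stabilizer G α) (⟨β, mem_orbit_self β⟩ : orbit (stabilizer G α) β) =
        stabilizer (stabilizer G α) β := by
      ext h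
      rw [mem_stabilizer_iff, mem_stabilizer_iff, Subtype.ext_iff]
      rfl
    rw [e, ← heq] at h
    exact h
  have hyp : Hyp (stabilizer G α) (Additive N) := ⟨hfaith, hirr, hmax, hns⟩
  have hodd : ∀ X : Subgroup (stabilizer G α), Odd (Nat.card X) → Group.IsSolvable X := by
    intro X hX
    let e := X.equivMapOfInjective (stabilizer G α).subtype (stabilizer G α).subtype_injective
    haveI := hFT (X.map (stabilizer G α).subtype) (by rw [← Nat.card_congr e.toEquiv]; exact hX)
    exact Group.isSolvable_of_surjective (f := e.symm.toMonoidHom) e.symm.surjective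
  have hcN : Nat.card (Additive N) = p ^ d := by
    rw [← hcard]
    exact Nat.card_congr (Additive.toMul.trans (Equiv.ofBijective _ hbij))
  have hpV : ∀ v : Additive N, p • v = 0 := by
    set W : AddSubgroup (Additive N) := (nsmulAddMonoidHom p).ker with hW
    have hWi : ∀ h : stabilizer G α, ∀ w ∈ W, h • w ∈ W := fun h w hw => by
      rw [hW, AddMonoidHom.mem_ker, nsmulAddMonoidHom_apply] at hw ⊢
      rw [smul_comm, hw, smul_zero]
    rcases hirr W hWi with e | e
    · exfalso
      obtain ⟨v, hv⟩ := exists_ne_zero hyp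
      have hd : d ≠ 0 := by
        intro h0
        rw [h0, pow_zero, Nat.card_eq_one_iff_unique] at hcN
        exact hv (hcN.1.elim _ _)
      haveI := Fact.mk hp
      obtain ⟨w, hw⟩ := exists_prime_addOrderOf_dvd_card' (G := Additive N) p
        (hcN ▸ dvd_pow_self p hd)
      have : w ∈ W := by
        rw [hW, AddMonoidHom.mem_ker, nsmulAddMonoidHom_apply, ← hw, addOrderOf_nsmul_eq_zero]
      rw [e, AddSubgroup.mem_bot] at this
      rw [this, addOrderOf_zero] at hw
      exact hp.ne_one hw.symm
    · intro v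
      have : v ∈ W := e ▸ AddSubgroup.mem_top v
      rwa [hW, AddMonoidHom.mem_ker, nsmulAddMonoidHom_apply] at this
  have hoddH : Odd (Nat.card (stabilizer G α)) → Group.IsSolvable (stabilizer G α) := hFT _
  have hp2 := char_two hyp hoddH hp hpV
  subst hp2
  exact ⟨rfl, almostSimple hyp (fun v => by rw [← two_nsmul]; exact hpV v) hodd⟩

end CfsgLib.Perm.EPAffine
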