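import Cfsg.Agent.Lib.Perm.EPAffine.Basic

/-!
# Linear groups with maximal stabilisers in characteristic two: the minimal normal subgroup
-/

set_option autoImplicit false
set_option linter.all false

namespace CfsgLib.Perm.EPAffine

open MulAction Finset

variable {H V : Type*} [Group H] [Finite H] [AddCommGroup V] [DistribMulAction H V]
variable (hyp : Hyp H V) (h2 : ∀ v : V, v + v = 0)

include h2 in
theorem nsmul_odd {r : ℕ} (hr : Odd r) (v : V) : r • v = v := by
  obtain ⟨k, rfl⟩ := hr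
  rw [add_smul, one_smul, mul_comm, mul_smul, two_nsmul, h2, smul_zero, zero_add]

include h2 in
theorem neg_eq' (v : V) : -v = v := neg_eq_of_add_eq_zero_left (h2 v)

include hyp h2 in
/-- An involution fixes a nonzero vector. -/
theorem exists_fixed_vector {c : H} (hc : c * c = 1) : ∃ v : V, v ≠ 0 ∧ c • v = v := by
  obtain ⟨x, hx⟩ := exists_ne_zero hyp
  by_cases h : c • x + x = 0
  · exact ⟨x, hx, (eq_neg_of_add_eq_zero_left h).trans (neg_eq' h2 x)⟩
  · exact ⟨_, h, by rw [smul_add, ← mul_smul, hc, one_smul, add_comm]⟩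

include hyp h2 in
theorem not_semiregular {X : Subgroup H} (h : 2 ∣ Nat.card X)
    (hX : ∀ v : V, v ≠ 0 → ∀ m ∈ X, m • v = v → m = 1) : False := by
  haveI : Fact (Nat.Prime 2) := ⟨Nat.prime_two⟩
  obtain ⟨⟨c, hc⟩, hc2⟩ := exists_prime_orderOf_dvd_card' (G := X) 2 h
  rw [Subgroup.orderOf_mk] at hc2
  have hcc : c * c = 1 := by rw [← sq, ← hc2, pow_orderOf_eq_one]
  obtain ⟨v, hv, hcv⟩ := exists_fixed_vector hyp h2 hcc
  rw [hX v hv c hc hcv, orderOf_one] at hc2
  omega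

variable {M : Subgroup H} [hMn : M.Normal] (hM0 : M ≠ ⊥)
  (hmin : ∀ K : Subgroup H, K.Normal → K ≤ M → K = ⊥ ∨ K = M)

include hyp h2 hM0 hmin in
theorem not_solvable : ¬ Group.IsSolvable M := by
  intro hs
  obtain ⟨r, hr, -, hMc, hexp⟩ := CfsgLib.Core.isPGroup_of_minimal_normal M hs hM0 hmin
  have hcomm : ∀ a ∈ M, ∀ b ∈ M, a * b = b * a := fun a ha b hb =>
    congrArg Subtype.val (hMc.is_comm.comm ⟨a, ha⟩ ⟨b, hb⟩)
  have hsemi : ∀ v : V, v ≠ 0 → ∀ m ∈ M, m • v = v → m = 1 := fun v hv m hm e =>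
    eq_one_of_commute hyp hv hM0 e fun x hx => hcomm m hm x hx
  have hr2 : Odd r := by
    refine hr.odd_of_ne_two fun e => ?_
    subst e
    obtain ⟨⟨a, ha⟩, ha1⟩ := Subgroup.ne_bot_iff_exists_ne_one.1 hM0
    refine not_semiregular hyp h2 (X := M) ?_ hsemi
    have : orderOf (⟨a, ha⟩ : M) = 2 := orderOf_eq_prime (Subtype.ext (hexp a ha)) ha1
    exact this ▸ orderOf_dvd_natCard _
  obtain ⟨⟨a, ha⟩, ha1'⟩ := Subgroup.ne_bot_iff_exists_ne_one.1 hM0
  have ha1 : a ≠ 1 := fun e => ha1' (Subtype.ext e)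
  haveI := Fact.mk hr
  have hcyc : ∀ b ∈ M, b ∈ Subgroup.zpowers a := by
    intro b hb
    by_contra hba
    obtain ⟨v, hv⟩ := exists_ne_zero hyp
    have hne : ∀ j : ℕ, a * b ^ j ≠ 1 := by
      intro j e
      have hle : Subgroup.zpowers a ≤ Subgroup.zpowers b := by
        rw [Subgroup.zpowers_le, eq_inv_of_mul_eq_one_left e]
        exact inv_mem (pow_mem (Subgroup.mem_zpowers b) j)
      have hb1 : b ≠ 1 := fun e' => hba (e' ▸ one_mem _)
      have := Subgroup.eq_of_le_of_card_ge hle (by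
        rw [Nat.card_zpowers, Nat.card_zpowers, orderOf_eq_prime (hexp b hb) hb1,
          orderOf_eq_prime (hexp a ha) ha1])
      exact hba (this ▸ Subgroup.mem_zpowers b)
    have hzero : ∀ (y : H) (x : V), y ∈ M → y ≠ 1 → ∑ i ∈ range r, y ^ i • x = 0 := by
      intro y x hy hy1
      by_contra h0
      exact hy1 (hsemi _ h0 y hy (smul_cyclic_sum (by rw [hexp y hy, one_smul])))
    have hid := sum_identity (V := V) hr (hcomm a ha b hb) (hexp b hb) v
    rw [Finset.sum_eq_zero fun j _ => hzero _ v (mul_mem ha (pow_mem hb j)) (hne j),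
      hzero b v hb (fun e' => hba (e' ▸ one_mem _))] at hid
    simp only [smul_zero, Finset.sum_const_zero, add_zero] at hid
    exact hv (by rw [← nsmul_odd h2 hr2 v, ← hid])
  -- the centraliser of `M` is `M`
  have hcent : ∀ c : H, (∀ m ∈ M, c * m = m * c) → c ∈ M := by
    intro c hc
    obtain ⟨v, hv⟩ := exists_ne_zero hyp
    obtain ⟨m, hm, s, hs, rfl⟩ := exists_factor hyp hv hM0 c
    have : s = 1 := eq_one_of_commute hyp hv hM0 (mem_stabilizer_iff.1 hs) fun x hx => by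
      have h1 := hc x hx
      rw [mul_assoc, ← mul_assoc x, ← hcomm m hm x hx, mul_assoc] at h1
      exact mul_left_cancel h1
    rw [this, mul_one]
    exact hm
  have hconj : ∀ x : H, ∃ k : ℤ, ∀ m ∈ M, x * m * x⁻¹ = m ^ k := by
    intro x
    obtain ⟨k, hk⟩ := Subgroup.mem_zpowers_iff.1 (hcyc _ (hMn.conj_mem a ha x))
    refine ⟨k, fun m hm => ?_⟩
    obtain ⟨l, rfl⟩ := Subgroup.mem_zpowers_iff.1 (hcyc m hm)
    rw [← conj_zpow, ← hk, ← zpow_mul, ← zpow_mul, mul_comm]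
  have hder : ⁅(⊤ : Subgroup H), ⊤⁆ ≤ M := by
    refine Subgroup.commutator_le.2 fun x _ y _ => hcent _ fun m hm => ?_
    obtain ⟨k, hk⟩ := hconj x
    obtain ⟨l, hl⟩ := hconj y
    obtain ⟨m', hm', rfl⟩ : ∃ m' ∈ M, m = (y * x) * m' * (y * x)⁻¹ :=
      ⟨(y * x)⁻¹ * m * (y * x), hMn.conj_mem' m hm _, by group⟩
    rw [_root_.commutatorElement_def]
    have e' : (x * y) * m' * (x * y)⁻¹ = (y * x) * m' * (y * x)⁻¹ := by
      calc (x * y) * m' * (x * y)⁻¹ = x * (y * m' * y⁻¹) * x⁻¹ := by group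
        _ = (m' ^ l) ^ k := by rw [hl m' hm', hk _ (M.zpow_mem hm' l)]
        _ = (m' ^ k) ^ l := by rw [← zpow_mul, ← zpow_mul, mul_comm]
        _ = y * (x * m' * x⁻¹) * y⁻¹ := by rw [hk m' hm', hl _ (M.zpow_mem hm' k)]
        _ = _ := by group
    calc x * y * x⁻¹ * y⁻¹ * (y * x * m' * (y * x)⁻¹)
        = (x * y) * m' * (x * y)⁻¹ * (x * y * x⁻¹ * y⁻¹) := by group
      _ = _ := by rw [e']
  refine hyp.insoluble ⟨⟨2, ?_⟩⟩
  rw [derivedSeries_succ, derivedSeries_one, commutator_def, eq_bot_iff]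
  refine le_trans (Subgroup.commutator_mono hder hder) (le_of_eq ?_)
  exact CfsgLib.Core.isMulCommutative_iff_commutator_eq_bot.1 hMc

include hyp h2 hM0 hmin in
theorem centralizer_eq_bot (hodd : Odd (Nat.card M) → Group.IsSolvable M) :
    Subgroup.centralizer (M : Set H) = ⊥ := by
  by_contra hC
  have hns := not_solvable hyp h2 hM0 hmin
  haveI : (Subgroup.centralizer (M : Set H)).Normal := Subgroup.normal_centralizer
  obtain ⟨L, hLn, hL0, hLC, -⟩ :=
    CfsgLib.Core.exists_minimal_normal_le' (Subgroup.centralizer (M : Set H)) hC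
  haveI := hLn
  have h2M : 2 ∣ Nat.card M := by
    by_contra h
    exact hns (hodd (Nat.odd_iff.2 (by omega)))
  refine not_semiregular hyp h2 h2M fun v hv m hm e =>
    eq_one_of_commute hyp hv hL0 e fun x hx => ?_
  exact Subgroup.mem_centralizer_iff.1 (hLC hx) m hm

end CfsgLib.Perm.EPAffine
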